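import Mathlib

/-!
# Picard groups of polynomial rings over products of GCD domains
-/

set_option autoImplicit false

universe u

open TensorProduct

namespace PicProdLib

theorem isGCDMonoid_of_mulEquiv {α β : Type*} [CommMonoidWithZero α] [CommMonoidWithZero β] (e : α ≃* β)
    [IsGCDMonoid α] [IsCancelMulZero β] : IsGCDMonoid β := by
  rw [isGCDMonoid_iff_exists_gcd]
  refine ⟨inferInstance, fun a b => ?_⟩
  obtain ⟨c, hc⟩ := (isGCDMonoid_iff_exists_gcd.1 ‹IsGCDMonoid α›).2 (e.symm a) (e.symm b)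
  refine ⟨e c, fun d => ?_⟩
  rw [← map_dvd_iff e.symm (a := d), ← map_dvd_iff e.symm (a := d), hc, ← map_dvd_iff e (a := e.symm d),
    MulEquiv.apply_symm_apply]

theorem isGCDMonoid_mvPolynomial (S : Type u) [CommRing S] [IsDomain S] [IsGCDMonoid S] :
    ∀ n : ℕ, IsGCDMonoid (MvPolynomial (Fin n) S)
  | 0 => isGCDMonoid_of_mulEquiv (MvPolynomial.isEmptyAlgEquiv S (Fin 0)).toMulEquiv.symm
  | n + 1 =>
    haveI := isGCDMonoid_mvPolynomial S n
    isGCDMonoid_of_mulEquiv (MvPolynomial.finSuccEquiv S n).toMulEquiv.symm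

/-- On a component the coordinates of an invertible module can be written with bounded degree. -/
theorem exists_factor {A : Type u} [CommRing A] {σ : Type} {S : Type u} [CommRing S] [IsDomain S]
    [Algebra A (MvPolynomial σ S)] [Subsingleton (CommRing.Pic (MvPolynomial σ S))]
    (M : Type u) [AddCommGroup M] [Module A M] [Module.Invertible A M]
    (m : ℕ) (x : Fin m → M) (f : Fin m → M →ₗ[A] A) (hsum : ∀ z, ∑ k, f k z • x k = z) :
    ∃ a w : Fin m → MvPolynomial σ S,
      (∀ k l, algebraMap A (MvPolynomial σ S) (f k (x l)) = a l * w k) ∧ ∑ k, a k * w k = 1 ∧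
      ∀ D : ℕ, (∀ k l, (algebraMap A (MvPolynomial σ S) (f k (x l))).totalDegree ≤ D) →
        (∀ l, (a l).totalDegree ≤ D) ∧ ∀ k, (w k).totalDegree ≤ D := by
  obtain ⟨φ⟩ := Module.Invertible.free_iff_linearEquiv.1
    (inferInstance : Module.Free (MvPolynomial σ S) (MvPolynomial σ S ⊗[A] M))
  let F : Fin m → (MvPolynomial σ S ⊗[A] M) →ₗ[MvPolynomial σ S] MvPolynomial σ S := fun k =>
    LinearMap.liftBaseChange (MvPolynomial σ S) ((Algebra.linearMap A (MvPolynomial σ S)).comp (f k))
  have hF : ∀ k y, F k (1 ⊗ₜ y) = algebraMap A (MvPolynomial σ S) (f k y) := fun k y => by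
    simp [F]
  have hz : ∀ y, ∑ k, F k y • ((1 : MvPolynomial σ S) ⊗ₜ[A] x k) = y := fun y => by
    induction y using TensorProduct.induction_on with
    | zero => simp
    | add u v hu hv => simp only [map_add, add_smul, Finset.sum_add_distrib, hu, hv]
    | tmul b y =>
      rw [show b ⊗ₜ[A] y = b • ((1 : MvPolynomial σ S) ⊗ₜ[A] y) by
        rw [TensorProduct.smul_tmul', smul_eq_mul, mul_one]]
      simp only [map_smul, smul_assoc, hF, ← Finset.smul_sum, algebraMap_smul, ← TensorProduct.tmul_smul,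
        ← TensorProduct.tmul_sum, hsum]
  have hfac : ∀ k l, algebraMap A (MvPolynomial σ S) (f k (x l)) = φ (1 ⊗ₜ x l) * F k (φ.symm 1) := fun k l => by
    rw [← hF, ← smul_eq_mul, ← map_smul]
    congr 1
    apply φ.injective
    rw [map_smul, φ.apply_symm_apply, smul_eq_mul, mul_one]
  have hone' : ∑ k, φ (1 ⊗ₜ x k) * F k (φ.symm 1) = 1 := by
    have h := congrArg φ (hz (φ.symm 1))
    simp only [map_sum, map_smul, φ.apply_symm_apply, smul_eq_mul] at h
    exact Eq.trans (Finset.sum_congr rfl fun k _ => mul_comm _ _) h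
  refine ⟨fun l => φ (1 ⊗ₜ x l), fun k => F k (φ.symm 1), hfac, hone', ?_⟩
  intro D hD
  have hone : ∑ k, φ (1 ⊗ₜ x k) * F k (φ.symm 1) ≠ 0 → ∃ k, φ (1 ⊗ₜ x k) ≠ 0 ∧ F k (φ.symm 1) ≠ 0 := fun h => by
    by_contra hc
    refine h (Finset.sum_eq_zero fun k _ => ?_)
    by_contra hk
    exact hc ⟨k, left_ne_zero_of_mul hk, right_ne_zero_of_mul hk⟩
  obtain ⟨k₀, ha₀, hw₀⟩ := hone (hone'.trans_ne one_ne_zero)
  refine ⟨fun l => ?_, fun k => ?_⟩
  · by_cases h : φ (1 ⊗ₜ x l) = 0
    · simp [h]
    · have := hD k₀ l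
      rw [hfac, MvPolynomial.totalDegree_mul_of_isDomain h hw₀] at this
      exact le_trans (Nat.le_add_right _ _) this
  · by_cases h : F k (φ.symm 1) = 0
    · simp [h]
    · have := hD k k₀
      rw [hfac, MvPolynomial.totalDegree_mul_of_isDomain ha₀ h] at this
      exact le_trans (Nat.le_add_left _ _) this

theorem subsingleton_pic {ι : Type u} (R : ι → Type u) [∀ i, CommRing (R i)] [∀ i, IsDomain (R i)]
    [∀ i, IsGCDMonoid (R i)] (n : ℕ) : Subsingleton (CommRing.Pic (MvPolynomial (Fin n) (∀ i, R i))) := by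
  classical
  rw [CommRing.Pic.subsingleton_iff]
  intro M _ _ _
  obtain ⟨m, p, g, -, -, hpg⟩ := Module.Finite.exists_comp_eq_id_of_projective (MvPolynomial (Fin n) (∀ i, R i)) M
  let x : Fin m → M := fun k => p (Pi.single k 1)
  let f : Fin m → M →ₗ[MvPolynomial (Fin n) (∀ i, R i)] MvPolynomial (Fin n) (∀ i, R i) :=
    fun k => (LinearMap.proj k).comp g
  have hsum : ∀ z, ∑ k, f k z • x k = z := fun z => by
    have h := LinearMap.congr_fun hpg z
    simp only [LinearMap.comp_apply, LinearMap.id_apply] at h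
    conv_rhs => rw [← h, pi_eq_sum_univ' (g z), map_sum]
    simp only [map_smul]
    rfl
  let π : ∀ i, MvPolynomial (Fin n) (∀ i, R i) →+* MvPolynomial (Fin n) (R i) := fun i =>
    MvPolynomial.map (Pi.evalRingHom R i)
  have hex : ∀ {p q : MvPolynomial (Fin n) (∀ i, R i)}, (∀ i, π i p = π i q) → p = q := fun {p q} h =>
    MvPolynomial.ext _ _ fun d => funext fun i => by
      have := congrArg (MvPolynomial.coeff d) (h i)
      simpa [π, MvPolynomial.coeff_map] using this
  let D := Finset.univ.sup fun kl : Fin m × Fin m => (f kl.1 (x kl.2)).totalDegree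
  have hfac : ∀ i, ∃ a w : Fin m → MvPolynomial (Fin n) (R i),
      (∀ k l, π i (f k (x l)) = a l * w k) ∧ ∑ k, a k * w k = 1 ∧
      (∀ l, (a l).totalDegree ≤ D) ∧ ∀ k, (w k).totalDegree ≤ D := fun i => by
    letI : Algebra (MvPolynomial (Fin n) (∀ i, R i)) (MvPolynomial (Fin n) (R i)) := (π i).toAlgebra
    haveI := isGCDMonoid_mvPolynomial (R i) n
    obtain ⟨a, w, h1, h2, h3⟩ := exists_factor (σ := Fin n) (S := R i) M m x f hsum
    refine ⟨a, w, h1, h2, h3 D fun k l => ?_⟩
    refine le_trans (Finset.sup_mono (MvPolynomial.support_map_subset _ _)) ?_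
    exact Finset.le_sup (f := fun kl : Fin m × Fin m => (f kl.1 (x kl.2)).totalDegree) (Finset.mem_univ (k, l))
  choose a w h1 h2 h3 h4 using hfac
  have hlift : ∀ q : ∀ i, MvPolynomial (Fin n) (R i), (∀ i, (q i).totalDegree ≤ D) →
      ∃ Q, ∀ i, π i Q = q i := fun q hq => by
    obtain ⟨T, hT⟩ : ∃ T : Finset (Fin n →₀ ℕ), ∀ d, d ∉ T → D < d.sum fun _ e => e := by
      refine ⟨Finset.Iic (Finsupp.equivFunOnFinite.symm fun _ => D), fun d hd => ?_⟩
      rw [Finset.mem_Iic, Finsupp.le_def] at hd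
      obtain ⟨k, hk⟩ := not_forall.1 hd
      simp only [Finsupp.equivFunOnFinite_symm_apply_apply, not_le] at hk
      refine hk.trans_le ?_
      exact Finset.single_le_sum (f := d) (fun _ _ => Nat.zero_le _) (Finsupp.mem_support_iff.2 (by omega))
    refine ⟨∑ d ∈ T, MvPolynomial.monomial d fun i => (q i).coeff d, fun i => ?_⟩
    refine MvPolynomial.ext _ _ fun d => ?_
    simp only [π, MvPolynomial.coeff_map, MvPolynomial.coeff_sum, MvPolynomial.coeff_monomial,
      Finset.sum_ite_eq', Pi.evalRingHom_apply]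
    split_ifs with h
    · rfl
    · rw [MvPolynomial.coeff_eq_zero_of_totalDegree_lt (lt_of_le_of_lt (hq i) (hT d h))]
      rfl
  choose a' ha' using fun l => hlift (fun i => a i l) (fun i => h3 i l)
  choose w' hw' using fun k => hlift (fun i => w i k) (fun i => h4 i k)
  have e1 : ∀ k l, f k (x l) = a' l * w' k := fun k l => hex fun i => by rw [map_mul, ha', hw', h1]
  have e2 : ∑ k, a' k * w' k = 1 := hex fun i => by simp only [map_sum, map_mul, map_one, ha', hw', h2]
  let φ : M →ₗ[MvPolynomial (Fin n) (∀ i, R i)] MvPolynomial (Fin n) (∀ i, R i) := ∑ k, a' k • f k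
  let z : M := ∑ l, w' l • x l
  have hφz : φ z = 1 := by
    simp only [φ, z, LinearMap.sum_apply, LinearMap.smul_apply, map_sum, map_smul, smul_eq_mul, e1]
    rw [Finset.sum_congr rfl fun k _ => show w' k * (∑ l, a' l * (a' k * w' l)) =
      a' k * w' k * ∑ l, a' l * w' l by
        rw [Finset.mul_sum, Finset.mul_sum]; exact Finset.sum_congr rfl fun l _ => by ring,
      ← Finset.sum_mul, e2, one_mul]
  have hx : ∀ y, φ y • z = y := fun y => by
    conv_rhs => rw [← hsum y]
    have hfl : ∀ l, f l y = φ y * w' l := fun l => by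
      conv_lhs => rw [← hsum y]
      simp only [φ, LinearMap.sum_apply, LinearMap.smul_apply, map_sum, map_smul, smul_eq_mul, e1, Finset.sum_mul]
      exact Finset.sum_congr rfl fun k _ => by ring
    simp only [z, Finset.smul_sum, smul_smul, hfl]
  exact Module.Free.of_equiv (LinearEquiv.ofLinear φ (LinearMap.toSpanSingleton _ M z)
    (LinearMap.ext_ring (by simp [hφz])) (LinearMap.ext fun y => by simp [hx])).symm

end PicProdLib
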